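import Mathlib
import Groth.Prelude.Def_FEt
import Groth.Prelude.Def_Hensel
import Groth.Agent.Lib.Helper9.FE.ClopenCrit
import Groth.Agent.Lib.Helper9.FE.UnibranchEt
import Groth.Agent.Lib.Helper7.SHens.Abstract

/-! helper7: restriction of finite étale covers to a dense retrocompact open whose complement
consists of closed points at which the punctured strictly henselian spectra are connected is
fully faithful -/

open CategoryTheory CategoryTheory.Limits AlgebraicGeometry TopologicalSpace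

universe u

set_option linter.style.haveILetI false
set_option linter.unusedVariables false
set_option linter.unusedSectionVars false
set_option autoImplicit false
set_option backward.isDefEq.respectTransparency.types false
set_option synthInstance.maxHeartbeats 400000
set_option maxHeartbeats 1600000

namespace Groth.Agent.Helper7.FEtDense

section Closure

/-- a point in the closure of a basic open of a prime spectrum is a specialization of a point
of the basic open -/
theorem exists_specializes_of_mem_closure_basicOpen {R : Type u} [CommRing R] (f : R)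
    (p : PrimeSpectrum R)
    (hp : p ∈ closure (PrimeSpectrum.basicOpen f : Set (PrimeSpectrum R))) :
    ∃ q : PrimeSpectrum R, q ∈ (PrimeSpectrum.basicOpen f : Set (PrimeSpectrum R)) ∧ q ⤳ p := by
  by_contra hcon
  have hall : ∀ q : PrimeSpectrum R, q ⤳ p → f ∈ q.asIdeal := by
    intro q hq
    by_contra hf
    exact hcon ⟨q, hf, hq⟩
  have hnil : IsNilpotent (algebraMap R (Localization.AtPrime p.asIdeal) f) := by
    rw [nilpotent_iff_mem_prime]
    intro J hJ
    have hle : J.comap (algebraMap R (Localization.AtPrime p.asIdeal)) ≤ p.asIdeal := by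
      have h1 : J ≤ IsLocalRing.maximalIdeal (Localization.AtPrime p.asIdeal) :=
        IsLocalRing.le_maximalIdeal hJ.ne_top
      have h2 := Ideal.comap_mono (f := algebraMap R (Localization.AtPrime p.asIdeal)) h1
      exact h2.trans (IsLocalization.AtPrime.under_maximalIdeal (Localization.AtPrime p.asIdeal)
        p.asIdeal).le
    have hq : (⟨J.comap (algebraMap R (Localization.AtPrime p.asIdeal)), inferInstance⟩ :
        PrimeSpectrum R) ⤳ p := (PrimeSpectrum.le_iff_specializes _ _).mp hle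
    exact hall _ hq
  obtain ⟨n, hn⟩ := hnil
  rw [← map_pow] at hn
  obtain ⟨s, hs⟩ := (IsLocalization.map_eq_zero_iff p.asIdeal.primeCompl _ _).mp hn
  have hps : p ∈ (PrimeSpectrum.basicOpen (s : R) : Set (PrimeSpectrum R)) := s.2
  obtain ⟨q, hqs, hqf⟩ := mem_closure_iff.mp hp _ (PrimeSpectrum.basicOpen (s : R)).2 hps
  have h0 : (s : R) * f ^ n ∈ q.asIdeal := by rw [hs]; exact zero_mem _
  rcases q.isPrime.mem_or_mem h0 with h | h
  · exact hqs h
  · exact hqf (q.isPrime.mem_of_pow_mem n h)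

theorem exists_specializes_of_mem_closure_of_isCompact {R : Type u} [CommRing R]
    (K : Set (PrimeSpectrum R)) (hKc : IsCompact K) (hKo : IsOpen K) (p : PrimeSpectrum R)
    (hp : p ∈ closure K) : ∃ q ∈ K, q ⤳ p := by
  obtain ⟨t, ht⟩ := PrimeSpectrum.isCompact_isOpen_iff.mp ⟨hKc, hKo⟩
  have hK : K = ⋃ f ∈ (t : Set R), (PrimeSpectrum.basicOpen f : Set (PrimeSpectrum R)) := by
    rw [← ht]
    ext q
    rw [Set.mem_compl_iff, PrimeSpectrum.mem_zeroLocus, Set.not_subset]
    constructor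
    · rintro ⟨f, hft, hfq⟩
      exact Set.mem_iUnion₂.mpr ⟨f, hft, hfq⟩
    · intro h
      obtain ⟨f, hft, hfq⟩ := Set.mem_iUnion₂.mp h
      exact ⟨f, hft, hfq⟩
  rw [hK, t.finite_toSet.closure_biUnion] at hp
  obtain ⟨f, hft, hpf⟩ := Set.mem_iUnion₂.mp hp
  obtain ⟨q, hqf, hqp⟩ := exists_specializes_of_mem_closure_basicOpen f p hpf
  refine ⟨q, ?_, hqp⟩
  rw [hK]
  exact Set.mem_iUnion₂.mpr ⟨f, hft, hqf⟩

/-- a point in the closure of a retrocompact open subset of a scheme is a specialization of a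
point of the subset -/
theorem exists_specializes_of_mem_closure {Y : Scheme.{u}} (W : Set Y) (hWo : IsOpen W)
    (hWc : ∀ O : Y.Opens, IsAffineOpen O → IsCompact (W ∩ (O : Set Y))) (z : Y)
    (hz : z ∈ closure W) : ∃ w ∈ W, w ⤳ z := by
  obtain ⟨O, hO, hzO, -⟩ := exists_isAffineOpen_mem_and_subset (x := z) (U := ⊤) trivial
  obtain ⟨j, hjdef⟩ : ∃ j : Spec Γ(Y, O) ⟶ Y, j = hO.fromSpec := ⟨_, rfl⟩
  haveI : IsOpenImmersion j := by rw [hjdef]; infer_instance
  have hjemb : Topology.IsOpenEmbedding j := j.isOpenEmbedding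
  have hrange : Set.range j = (O : Set Y) := by rw [hjdef]; exact hO.range_fromSpec
  obtain ⟨p, hpdef⟩ : ∃ p : Spec Γ(Y, O), p = hO.primeIdealOf ⟨z, hzO⟩ := ⟨_, rfl⟩
  have hjp : j p = z := by rw [hjdef, hpdef]; exact hO.fromSpec_primeIdealOf ⟨z, hzO⟩
  have hKc : IsCompact (j ⁻¹' W) := by
    have h1 : j ⁻¹' W = j ⁻¹' (W ∩ (O : Set Y)) := by
      ext q
      constructor
      · intro hq
        refine ⟨hq, ?_⟩
        rw [← hrange]
        exact ⟨q, rfl⟩
      · intro hq
        exact hq.1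
    rw [h1]
    exact hjemb.isInducing.isCompact_preimage' (hWc O hO)
      (by rw [hrange]; exact Set.inter_subset_right)
  have hKo : IsOpen (j ⁻¹' W) := hWo.preimage j.continuous
  have hp : p ∈ closure (j ⁻¹' W) := by
    apply hjemb.isOpenMap.preimage_closure_subset_closure_preimage
    show j p ∈ closure W
    rw [hjp]
    exact hz
  obtain ⟨q, hqW, hqp⟩ :=
    exists_specializes_of_mem_closure_of_isCompact (R := Γ(Y, O)) (j ⁻¹' W) hKc hKo p hp
  refine ⟨j q, hqW, ?_⟩
  rw [← hjp]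
  exact hqp.map j.continuous

end Closure

section Local

/-- a strict henselization of the local ring of an étale scheme at a point which is also a
strict henselization of the local ring of the base at the image point -/
theorem exists_common_sh {X V : Scheme.{u}} (f : V ⟶ X) [Etale f] (v : V) :
    ∃ (S : Type u) (_ : CommRing S) (_ : IsLocalRing S) (_ : Algebra (V.presheaf.stalk v) S)
      (_ : IsLocalHom (algebraMap (V.presheaf.stalk v) S))
      (_ : Hensel.IsStrictHenselization (V.presheaf.stalk v) S)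
      (_ : Algebra (X.presheaf.stalk (f v)) S)
      (_ : IsLocalHom (algebraMap (X.presheaf.stalk (f v)) S)),
      Hensel.IsStrictHenselization (X.presheaf.stalk (f v)) S := by
  obtain ⟨X₀, hX₀, hxX₀, -⟩ := exists_isAffineOpen_mem_and_subset (x := f v) (U := ⊤) trivial
  obtain ⟨V₀, hV₀, hvV₀, hle⟩ := exists_isAffineOpen_mem_and_subset (x := v)
    (U := f ⁻¹ᵁ X₀) hxX₀
  let ψ : Γ(X, X₀) ⟶ Γ(V, V₀) := f.appLE X₀ V₀ hle
  have hψet : ψ.hom.Etale :=
    HasRingHomProperty.appLE (P := @Etale) f inferInstance ⟨X₀, hX₀⟩ ⟨V₀, hV₀⟩ hle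
  algebraize [ψ.hom]
  letI : Algebra Γ(X, X₀) (X.presheaf.stalk (f v)) :=
    X.presheaf.algebra_section_stalk ⟨f v, hxX₀⟩
  haveI locA := hX₀.isLocalization_stalk ⟨f v, hxX₀⟩
  letI : Algebra Γ(V, V₀) (V.presheaf.stalk v) := V.presheaf.algebra_section_stalk ⟨v, hvV₀⟩
  haveI locB := hV₀.isLocalization_stalk ⟨v, hvV₀⟩
  letI : Algebra (X.presheaf.stalk (f v)) (V.presheaf.stalk v) := (f.stalkMap v).hom.toAlgebra
  haveI : IsLocalHom (algebraMap (X.presheaf.stalk (f v)) (V.presheaf.stalk v)) :=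
    inferInstanceAs (IsLocalHom (f.stalkMap v).hom)
  have hcomm : ∀ a : Γ(X, X₀),
      algebraMap (X.presheaf.stalk (f v)) (V.presheaf.stalk v)
        (algebraMap Γ(X, X₀) (X.presheaf.stalk (f v)) a) =
      algebraMap Γ(V, V₀) (V.presheaf.stalk v) (algebraMap Γ(X, X₀) Γ(V, V₀) a) := by
    intro a
    have h1 := Scheme.Hom.germ_stalkMap_apply f X₀ v hxX₀ a
    have h2 : (V.presheaf.germ V₀ v hvV₀).hom ((f.appLE X₀ V₀ hle).hom a) =
        (V.presheaf.germ (f ⁻¹ᵁ X₀) v hxX₀).hom ((f.app X₀).hom a) := by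
      simp only [Scheme.Hom.appLE, CommRingCat.hom_comp, RingHom.coe_comp, Function.comp_apply]
      exact V.presheaf.germ_res_apply (homOfLE hle) v hvV₀ _
    exact h1.trans h2.symm
  obtain ⟨S, i1, i2, i3, i4, hS⟩ :=
    Groth.Agent.Helper7.SHens.exists_isStrictHenselization (V.presheaf.stalk v)
  letI aXS : Algebra (X.presheaf.stalk (f v)) S :=
    ((algebraMap (V.presheaf.stalk v) S).comp
      (algebraMap (X.presheaf.stalk (f v)) (V.presheaf.stalk v))).toAlgebra
  haveI : IsScalarTower (X.presheaf.stalk (f v)) (V.presheaf.stalk v) S :=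
    IsScalarTower.of_algebraMap_eq' rfl
  haveI hloc : IsLocalHom (algebraMap (X.presheaf.stalk (f v)) S) := by
    show IsLocalHom ((algebraMap (V.presheaf.stalk v) S).comp
      (algebraMap (X.presheaf.stalk (f v)) (V.presheaf.stalk v)))
    infer_instance
  have htr := H9FE.SHTrans.isStrictHenselization_trans (A' := Γ(X, X₀)) (E' := Γ(V, V₀))
    (A := X.presheaf.stalk (f v)) (B := V.presheaf.stalk v)
    (hX₀.primeIdealOf ⟨f v, hxX₀⟩).asIdeal.primeCompl (hV₀.primeIdealOf ⟨v, hvV₀⟩).asIdeal hcomm S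
  exact ⟨S, i1, i2, i3, i4, hS, aXS, hloc, htr⟩

theorem not_specializes_both {X Y : Scheme.{u}} (y : Y ⟶ X) [Etale y] (U : X.Opens)
    (hcl : ∀ x : X, x ∉ U → IsClosed ({x} : Set X))
    (hsh : ∀ x : X, x ∉ U → ∀ (R : Type u) [CommRing R] [IsLocalRing R]
      [Algebra (X.presheaf.stalk x) R]
      [IsLocalHom (algebraMap (X.presheaf.stalk x) R)]
      [Hensel.IsStrictHenselization (X.presheaf.stalk x) R],
      ConnectedSpace (FEt.puncturedSpec R : Scheme.{u}))
    (T₁ T₂ : Set Y) (hT₁ : IsOpen T₁) (hT₂ : IsOpen T₂) (hdisj : Disjoint T₁ T₂)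
    (hcov : y ⁻¹' (U : Set X) ⊆ T₁ ∪ T₂) (hsub₁ : T₁ ⊆ y ⁻¹' (U : Set X))
    (hsub₂ : T₂ ⊆ y ⁻¹' (U : Set X))
    (z z₁ z₂ : Y) (hz : y z ∉ U) (h₁ : z₁ ∈ T₁) (h₂ : z₂ ∈ T₂) (hs₁ : z₁ ⤳ z) (hs₂ : z₂ ⤳ z) :
    False := by
  obtain ⟨S, i1, i2, i3, i4, hS, i5, i6, hS'⟩ := exists_common_sh y z
  haveI hconn : ConnectedSpace (FEt.puncturedSpec S : Scheme.{u}) := hsh (y z) hz S
  obtain ⟨π, hπ⟩ : ∃ π : Spec (CommRingCat.of S) ⟶ Y,
      π = Spec.map (CommRingCat.ofHom (algebraMap (Y.presheaf.stalk z) S)) ≫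
        Y.fromSpecStalk z := ⟨_, rfl⟩
  have hB1 : ∀ 𝔮 : ↥(Spec (CommRingCat.of S)), π 𝔮 ⤳ z := by
    intro 𝔮
    have h1 : π 𝔮 ∈ Set.range (Y.fromSpecStalk z) := by
      rw [hπ, Scheme.Hom.comp_apply]
      exact ⟨_, rfl⟩
    rw [Scheme.range_fromSpecStalk] at h1
    exact h1
  have hB0 : π (IsLocalRing.closedPoint S) = z := by
    rw [hπ, Scheme.Hom.comp_apply]
    have h1 : (Spec.map (CommRingCat.ofHom (algebraMap (Y.presheaf.stalk z) S)))
        (IsLocalRing.closedPoint S) = IsLocalRing.closedPoint (Y.presheaf.stalk z) :=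
      IsLocalRing.comap_closedPoint (algebraMap (Y.presheaf.stalk z) S)
    rw [h1]
    exact Scheme.fromSpecStalk_closedPoint
  have hB2 : ∀ 𝔮 : ↥(Spec (CommRingCat.of S)), π 𝔮 = z → 𝔮 = IsLocalRing.closedPoint S := by
    intro 𝔮 h
    rw [hπ, Scheme.Hom.comp_apply] at h
    have h1 : (Spec.map (CommRingCat.ofHom (algebraMap (Y.presheaf.stalk z) S))) 𝔮 =
        IsLocalRing.closedPoint (Y.presheaf.stalk z) := by
      apply (Y.fromSpecStalk z).isEmbedding.injective
      rw [h]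
      exact Scheme.fromSpecStalk_closedPoint.symm
    have h2 : IsLocalRing.maximalIdeal (Y.presheaf.stalk z) ≤
        Ideal.comap (algebraMap (Y.presheaf.stalk z) S) 𝔮.asIdeal := by
      have h3 := congrArg PrimeSpectrum.asIdeal h1
      exact (show Ideal.comap (algebraMap (Y.presheaf.stalk z) S) 𝔮.asIdeal =
        IsLocalRing.maximalIdeal (Y.presheaf.stalk z) from h3).ge
    have h3 : IsLocalRing.maximalIdeal S ≤ 𝔮.asIdeal := by
      rw [← Groth.Agent.Helper7.SHens.map_maximalIdeal_of_isStrictHenselization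
        (Y.presheaf.stalk z) S, Ideal.map_le_iff_le_comap]
      exact h2
    apply PrimeSpectrum.ext
    exact ((IsLocalRing.maximalIdeal.isMaximal S).eq_of_le 𝔮.isPrime.ne_top h3).symm
  have hB3 : ∀ z' : Y, z' ⤳ z → ∃ 𝔮 : ↥(Spec (CommRingCat.of S)), π 𝔮 = z' := by
    intro z' hz'
    have h1 : z' ∈ Set.range (Y.fromSpecStalk z) := by
      rw [Scheme.range_fromSpecStalk]
      exact hz'
    obtain ⟨𝔟, rfl⟩ := h1
    haveI := Groth.Agent.Helper7.SHens.faithfullyFlat_of_isStrictHenselization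
      (Y.presheaf.stalk z) S
    obtain ⟨𝔮, h𝔮⟩ := PrimeSpectrum.comap_surjective_of_faithfullyFlat
      (A := Y.presheaf.stalk z) (B := S) 𝔟
    refine ⟨𝔮, ?_⟩
    rw [hπ, Scheme.Hom.comp_apply]
    exact congrArg (Y.fromSpecStalk z) h𝔮
  have hB4 : ∀ z' : Y, z' ⤳ z → z' ≠ z → y z' ∈ U := by
    intro z' hs hne
    by_contra hnU
    have h1 : y z' ⤳ y z := hs.map y.continuous
    have h2 : y z ∈ ({y z'} : Set X) := h1.mem_closed (hcl (y z') hnU) rfl
    haveI := H9FE.NormalIrredSch.locallyQuasiFinite_of_etale y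
    have hdisc := y.isDiscrete_preimage_singleton (y z)
    exact hne (hdisc.eq_of_specializes hs (show y z' = y z from (Set.mem_singleton_iff.mp h2).symm)
      rfl)
  obtain ⟨ρ, hρ⟩ : ∃ ρ : (FEt.puncturedSpec S : Scheme.{u}) ⟶ Y,
      ρ = (FEt.puncturedSpec S).ι ≫ π := ⟨_, rfl⟩
  have hιne : ∀ p : ↥(FEt.puncturedSpec S : Scheme.{u}),
      (FEt.puncturedSpec S).ι p ≠ IsLocalRing.closedPoint S := by
    intro p
    have h1 : (FEt.puncturedSpec S).ι p ∈ Set.range (FEt.puncturedSpec S).ι := ⟨p, rfl⟩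
    rw [Scheme.Opens.range_ι] at h1
    exact h1
  have hρs : ∀ p : ↥(FEt.puncturedSpec S : Scheme.{u}), ρ p ⤳ z := by
    intro p
    rw [hρ, Scheme.Hom.comp_apply]
    exact hB1 _
  have hρne : ∀ p : ↥(FEt.puncturedSpec S : Scheme.{u}), ρ p ≠ z := by
    intro p h
    rw [hρ, Scheme.Hom.comp_apply] at h
    exact hιne p (hB2 _ h)
  have hlift : ∀ z' : Y, z' ⤳ z → z' ≠ z → ∃ p : ↥(FEt.puncturedSpec S : Scheme.{u}),
      ρ p = z' := by
    intro z' hs hne
    obtain ⟨𝔮, h𝔮⟩ := hB3 z' hs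
    have h1 : 𝔮 ∈ Set.range (FEt.puncturedSpec S).ι := by
      rw [Scheme.Opens.range_ι]
      intro hc
      apply hne
      rw [← h𝔮, show 𝔮 = IsLocalRing.closedPoint S from hc, hB0]
    obtain ⟨p, hp⟩ := h1
    refine ⟨p, ?_⟩
    rw [hρ, Scheme.Hom.comp_apply, hp, h𝔮]
  have hclopen : IsClopen (ρ ⁻¹' T₁) := by
    refine ⟨?_, hT₁.preimage ρ.continuous⟩
    have hcompl : (ρ ⁻¹' T₁)ᶜ = ρ ⁻¹' T₂ := by
      ext p
      constructor
      · intro hp
        have h3 := hcov (hB4 _ (hρs p) (hρne p))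
        exact h3.resolve_left hp
      · intro hp hp1
        exact Set.disjoint_left.mp hdisj hp1 hp
    rw [← isOpen_compl_iff, hcompl]
    exact hT₂.preimage ρ.continuous
  have hz₁ne : z₁ ≠ z := by
    intro h
    apply hz
    have := hsub₁ h₁
    rwa [h] at this
  have hz₂ne : z₂ ≠ z := by
    intro h
    apply hz
    have := hsub₂ h₂
    rwa [h] at this
  obtain ⟨p₁, hp₁⟩ := hlift z₁ hs₁ hz₁ne
  obtain ⟨p₂, hp₂⟩ := hlift z₂ hs₂ hz₂ne
  rcases isClopen_iff.mp hclopen with h | h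
  · have : p₁ ∈ ρ ⁻¹' T₁ := by
      show ρ p₁ ∈ T₁
      rw [hp₁]
      exact h₁
    rw [h] at this
    exact this
  · have h3 : p₂ ∈ ρ ⁻¹' T₁ := by rw [h]; trivial
    have h4 : ρ p₂ ∈ T₁ := h3
    rw [hp₂] at h4
    exact Set.disjoint_left.mp hdisj h4 h₂

end Local

section Main

theorem clopen_inj {X Y : Scheme.{u}} (U : X.Opens) (hU : Dense (U : Set X)) (y : Y ⟶ X)
    (hy : Etale y) (T : Set Y) (hT : IsClopen T)
    (hpre : (pullback.fst y U.ι) ⁻¹' T = Set.univ) : T = Set.univ := by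
  haveI := hy
  have hr : Set.range (pullback.fst y U.ι) = y ⁻¹' (U : Set X) := by
    rw [Scheme.Pullback.range_fst, Scheme.Opens.range_ι]
  have hdense : Dense (y ⁻¹' (U : Set X)) := hU.preimage y.isOpenMap
  have hsub : y ⁻¹' (U : Set X) ⊆ T := by
    rw [← hr]
    rintro _ ⟨p, rfl⟩
    have : p ∈ (pullback.fst y U.ι) ⁻¹' T := by rw [hpre]; trivial
    exact this
  have hd : Dense T := hdense.mono hsub
  rw [← hT.1.closure_eq]
  exact hd.closure_eq

theorem clopen_surj {X Y : Scheme.{u}} (U : X.Opens) (hU : Dense (U : Set X)) [QuasiCompact U.ι]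
    (hcl : ∀ x : X, x ∉ U → IsClosed ({x} : Set X))
    (hsh : ∀ x : X, x ∉ U → ∀ (R : Type u) [CommRing R] [IsLocalRing R]
      [Algebra (X.presheaf.stalk x) R]
      [IsLocalHom (algebraMap (X.presheaf.stalk x) R)]
      [Hensel.IsStrictHenselization (X.presheaf.stalk x) R],
      ConnectedSpace (FEt.puncturedSpec R : Scheme.{u}))
    (y : Y ⟶ X) (hy : Etale y) (T' : Set ↥(pullback y U.ι)) (hT' : IsClopen T') :
    ∃ T : Set Y, IsClopen T ∧ (pullback.fst y U.ι) ⁻¹' T = T' := by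
  haveI := hy
  obtain ⟨j, hj⟩ : ∃ j : pullback y U.ι ⟶ Y, j = pullback.fst y U.ι := ⟨_, rfl⟩
  rw [← hj]
  haveI : IsOpenImmersion j := by rw [hj]; infer_instance
  haveI : QuasiCompact j := by rw [hj]; infer_instance
  have hemb : Topology.IsOpenEmbedding j := j.isOpenEmbedding
  have hr : Set.range j = y ⁻¹' (U : Set X) := by
    rw [hj, Scheme.Pullback.range_fst, Scheme.Opens.range_ι]
  have hdense : Dense (Set.range j) := by
    rw [hr]
    exact hU.preimage y.isOpenMap
  have hT₁o : IsOpen (j '' T') := hemb.isOpenMap _ hT'.2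
  have hT₂o : IsOpen (j '' T'ᶜ) := hemb.isOpenMap _ hT'.compl.2
  have hdisj : Disjoint (j '' T') (j '' T'ᶜ) := by
    rw [Set.disjoint_left]
    rintro _ ⟨a, ha, rfl⟩ ⟨b, hb, hab⟩
    exact hb (hemb.injective hab ▸ ha)
  have hun : j '' T' ∪ j '' T'ᶜ = Set.range j := by
    rw [← Set.image_union, Set.union_compl_self, Set.image_univ]
  have hcpt : ∀ Z : Set ↥(pullback y U.ι), IsClosed Z → ∀ O : Y.Opens, IsAffineOpen O →
      IsCompact (j '' Z ∩ (O : Set Y)) := by
    intro Z hZ O hO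
    have h1 : IsCompact (j ⁻¹' (O : Set Y)) :=
      QuasiCompact.isCompact_preimage (f := j) _ O.2 hO.isCompact
    have h2 : IsCompact (Z ∩ j ⁻¹' (O : Set Y)) := h1.inter_left hZ
    have h3 : j '' (Z ∩ j ⁻¹' (O : Set Y)) = j '' Z ∩ (O : Set Y) :=
      Set.image_inter_preimage j Z O
    rw [← h3]
    exact h2.image j.continuous
  have hkey : Disjoint (closure (j '' T')) (closure (j '' T'ᶜ)) := by
    rw [Set.disjoint_left]
    intro z hz1 hz2
    have hzr : z ∉ Set.range j := by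
      intro hzr
      rw [← hun] at hzr
      rcases hzr with h | h
      · obtain ⟨w, hw1, hw2⟩ := mem_closure_iff.mp hz2 _ hT₁o h
        exact Set.disjoint_left.mp hdisj hw1 hw2
      · obtain ⟨w, hw2, hw1⟩ := mem_closure_iff.mp hz1 _ hT₂o h
        exact Set.disjoint_left.mp hdisj hw1 hw2
    have hzU : y z ∉ U := by
      rw [hr] at hzr
      exact hzr
    obtain ⟨z₁, hz₁, hs₁⟩ := exists_specializes_of_mem_closure _ hT₁o (hcpt T' hT'.1) z hz1
    obtain ⟨z₂, hz₂, hs₂⟩ :=
      exists_specializes_of_mem_closure _ hT₂o (hcpt T'ᶜ hT'.compl.1) z hz2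
    exact not_specializes_both y U hcl hsh _ _ hT₁o hT₂o hdisj (hun.trans hr).ge
      (Set.subset_union_left.trans (hun.trans hr).le)
      (Set.subset_union_right.trans (hun.trans hr).le) z z₁ z₂ hzU hz₁ hz₂ hs₁ hs₂
  refine ⟨closure (j '' T'), ⟨isClosed_closure, ?_⟩, ?_⟩
  · have hcov : closure (j '' T') ∪ closure (j '' T'ᶜ) = Set.univ := by
      rw [← closure_union, hun]
      exact hdense.closure_eq
    have heq : closure (j '' T') = (closure (j '' T'ᶜ))ᶜ := by
      ext w
      constructor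
      · intro h1 h2
        exact Set.disjoint_left.mp hkey h1 h2
      · intro h2
        have h3 : w ∈ closure (j '' T') ∪ closure (j '' T'ᶜ) := by rw [hcov]; trivial
        exact h3.resolve_right h2
    rw [heq]
    exact isClosed_closure.isOpen_compl
  · rw [← hemb.isInducing.closure_eq_preimage_closure_image T', hT'.1.closure_eq]

theorem main {X : Scheme.{u}} (U : X.Opens) (hU : Dense (U : Set X)) [QuasiCompact U.ι]
    (hcl : ∀ x : X, x ∉ U → IsClosed ({x} : Set X))
    (hsh : ∀ x : X, x ∉ U → ∀ (R : Type u) [CommRing R] [IsLocalRing R]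
      [Algebra (X.presheaf.stalk x) R]
      [IsLocalHom (algebraMap (X.presheaf.stalk x) R)]
      [Hensel.IsStrictHenselization (X.presheaf.stalk x) R],
      ConnectedSpace (FEt.puncturedSpec R : Scheme.{u})) :
    (FEt.restrict U.ι).Full ∧ (FEt.restrict U.ι).Faithful := by
  apply H9FE.restrict_full_faithful_of_clopen U.ι
  · intro Y T hT hpre
    exact clopen_inj U hU Y.hom Y.prop.2 T hT hpre
  · intro W T' hT'
    exact clopen_surj U hU hcl hsh W.hom W.prop.2 T' hT'

end Main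

end Groth.Agent.Helper7.FEtDense
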