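import Mathlib
import Groth.Prelude.Def_FEt
import Groth.Prelude.Def_Hensel
import Groth.Agent.Lib.Helper7.FEtDense.Main

/-! helper7: restriction of finite étale covers to a dense open is fully faithful when quasi-compact
opens have finitely many irreducible components and the punctured strictly henselian spectra at the
points of the complement are connected -/

open CategoryTheory CategoryTheory.Limits AlgebraicGeometry TopologicalSpace

universe u

set_option linter.style.haveILetI false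
set_option linter.unusedVariables false
set_option linter.unusedSectionVars false
set_option autoImplicit false
set_option backward.isDefEq.respectTransparency.types false
set_option synthInstance.maxHeartbeats 400000
set_option maxHeartbeats 1600000

namespace Groth.Agent.Helper7.FEtDense

section MaxPt

/-- every point of a closed subset of a scheme is a specialization of a point of the subset which
has no proper generization in the subset -/
theorem exists_maximal_point {Y : Scheme.{u}} (Z : Set Y) (hZ : IsClosed Z) (z₀ : Y)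
    (hz₀ : z₀ ∈ Z) : ∃ ζ ∈ Z, ζ ⤳ z₀ ∧ ∀ z' ∈ Z, z' ⤳ ζ → z' = ζ := by
  obtain ⟨O, hO, hzO, -⟩ := exists_isAffineOpen_mem_and_subset (x := z₀) (U := ⊤) trivial
  obtain ⟨j, hjdef⟩ : ∃ j : Spec Γ(Y, O) ⟶ Y, j = hO.fromSpec := ⟨_, rfl⟩
  haveI : IsOpenImmersion j := by rw [hjdef]; infer_instance
  have hjemb : Topology.IsOpenEmbedding j := j.isOpenEmbedding
  have hrange : Set.range j = (O : Set Y) := by rw [hjdef]; exact hO.range_fromSpec
  obtain ⟨p₀, hp₀def⟩ : ∃ p : PrimeSpectrum Γ(Y, O), p = hO.primeIdealOf ⟨z₀, hzO⟩ := ⟨_, rfl⟩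
  have hjp : j p₀ = z₀ := by rw [hjdef, hp₀def]; exact hO.fromSpec_primeIdealOf ⟨z₀, hzO⟩
  obtain ⟨Z', hZ'def⟩ : ∃ Z' : Set (PrimeSpectrum Γ(Y, O)), Z' = j ⁻¹' Z := ⟨_, rfl⟩
  have hZ'cl : IsClosed Z' := by rw [hZ'def]; exact hZ.preimage j.continuous
  have hzl : PrimeSpectrum.zeroLocus (PrimeSpectrum.vanishingIdeal Z' : Set Γ(Y, O)) = Z' := by
    rw [PrimeSpectrum.zeroLocus_vanishingIdeal_eq_closure, hZ'cl.closure_eq]
  have hp₀Z : p₀ ∈ Z' := by
    rw [hZ'def]
    show j p₀ ∈ Z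
    rw [hjp]
    exact hz₀
  have hle : PrimeSpectrum.vanishingIdeal Z' ≤ p₀.asIdeal := by
    rw [← hzl] at hp₀Z
    exact fun a ha => ((PrimeSpectrum.mem_zeroLocus _ _).mp hp₀Z) ha
  obtain ⟨𝔮, h𝔮min, h𝔮le⟩ := Ideal.exists_minimalPrimes_le hle
  haveI h𝔮prime : 𝔮.IsPrime := h𝔮min.1.1
  obtain ⟨q, hqdef⟩ : ∃ q : PrimeSpectrum Γ(Y, O), q = ⟨𝔮, h𝔮prime⟩ := ⟨_, rfl⟩
  have hqZ : q ∈ Z' := by
    rw [← hzl, PrimeSpectrum.mem_zeroLocus, hqdef]
    exact fun a ha => h𝔮min.1.2 ha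
  refine ⟨j q, ?_, ?_, ?_⟩
  · rw [hZ'def] at hqZ
    exact hqZ
  · rw [← hjp]
    have hsp : (q : PrimeSpectrum Γ(Y, O)) ⤳ p₀ :=
      (PrimeSpectrum.le_iff_specializes q p₀).mp (by rw [hqdef]; exact h𝔮le)
    exact Specializes.map hsp j.continuous
  · intro z' hz'Z hz's
    have hz'O : z' ∈ Set.range j := by
      rw [hrange]
      refine hz's.mem_open O.2 ?_
      rw [← hrange]
      exact ⟨q, rfl⟩
    obtain ⟨q', rfl⟩ := hz'O
    have hq's : (q' : PrimeSpectrum Γ(Y, O)) ⤳ q := hjemb.isInducing.specializes_iff.mp hz's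
    have hq'Z : (q' : PrimeSpectrum Γ(Y, O)) ∈ Z' := by
      rw [hZ'def]
      exact hz'Z
    have h1 : (q' : PrimeSpectrum Γ(Y, O)).asIdeal ≤ 𝔮 := by
      have h := (PrimeSpectrum.le_iff_specializes (q' : PrimeSpectrum Γ(Y, O)) q).mpr hq's
      rw [hqdef] at h
      exact h
    have h2 : PrimeSpectrum.vanishingIdeal Z' ≤ (q' : PrimeSpectrum Γ(Y, O)).asIdeal := by
      rw [← hzl] at hq'Z
      exact fun a ha => ((PrimeSpectrum.mem_zeroLocus _ _).mp hq'Z) ha
    have h3 : 𝔮 ≤ (q' : PrimeSpectrum Γ(Y, O)).asIdeal :=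
      h𝔮min.2 ⟨(q' : PrimeSpectrum Γ(Y, O)).isPrime, h2⟩ h1
    have h4 : (q' : PrimeSpectrum Γ(Y, O)) = q := by
      apply PrimeSpectrum.ext
      rw [hqdef]
      exact le_antisymm h1 h3
    exact congrArg j h4

end MaxPt

section Gen

theorem exists_generic_points_finite {X : Scheme.{u}} (W : X.Opens)
    (hfin : (irreducibleComponents ↥W).Finite) :
    ∃ Ξ : Set X, Ξ.Finite ∧ ∀ w ∈ W, ∃ ξ ∈ Ξ, ξ ⤳ w := by
  haveI : QuasiSober ↥W := W.2.isOpenEmbedding_subtypeVal.quasiSober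
  have hφ : Function.Injective (fun w : ↥W => closure ({w} : Set ↥W)) := by
    intro a b hab
    have hab' : closure ({a} : Set ↥W) = closure ({b} : Set ↥W) := hab
    have h1 : a ⤳ b := by
      rw [specializes_iff_closure_subset]
      exact hab'.ge
    have h2 : b ⤳ a := by
      rw [specializes_iff_closure_subset]
      exact hab'.le
    exact (h1.antisymm h2).eq
  have hΞ' : ((fun w : ↥W => closure ({w} : Set ↥W)) ⁻¹' irreducibleComponents ↥W).Finite :=
    hfin.preimage hφ.injOn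
  refine ⟨Subtype.val '' ((fun w : ↥W => closure ({w} : Set ↥W)) ⁻¹' irreducibleComponents ↥W),
    hΞ'.image _, ?_⟩
  intro w hw
  have hC := irreducibleComponent_mem_irreducibleComponents (⟨w, hw⟩ : ↥W)
  obtain ⟨g, hg⟩ := QuasiSober.sober
    (isIrreducible_irreducibleComponent (x := (⟨w, hw⟩ : ↥W))) isClosed_irreducibleComponent
  refine ⟨g.1, ⟨g, ?_, rfl⟩, ?_⟩
  · show closure ({g} : Set ↥W) ∈ irreducibleComponents ↥W
    rw [hg.def]
    exact hC
  · have h1 : g ⤳ (⟨w, hw⟩ : ↥W) := by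
      rw [specializes_iff_mem_closure, hg.def]
      exact mem_irreducibleComponent
    exact h1.map continuous_subtype_val

theorem exists_specializes_of_mem_closure_of_irr {X Y : Scheme.{u}} (y : Y ⟶ X) [IsFinite y]
    [Etale y]
    (hirr : ∀ V : X.Opens, IsCompact (V : Set X) → (irreducibleComponents ↥V).Finite)
    (T : Set Y) (hT : IsOpen T) (ζ : Y) (hζ : ζ ∈ closure T) : ∃ η ∈ T, η ⤳ ζ := by
  obtain ⟨W, hW, hζW, -⟩ := exists_isAffineOpen_mem_and_subset (x := y ζ) (U := ⊤) trivial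
  obtain ⟨Ξ, hΞfin, hΞ⟩ := exists_generic_points_finite W (hirr W hW.isCompact)
  have hEfin : (y ⁻¹' Ξ).Finite := y.finite_preimage hΞfin
  have hgen : GeneralizingMap y := Flat.generalizingMap y
  have hOo : IsOpen (y ⁻¹' (W : Set X)) := W.2.preimage y.continuous
  have hsub : T ∩ y ⁻¹' (W : Set X) ⊆ ⋃ η ∈ (y ⁻¹' Ξ ∩ T), closure ({η} : Set Y) := by
    rintro o ⟨hoT, hoW⟩
    obtain ⟨ξ, hξ, hξo⟩ := hΞ (y o) hoW
    obtain ⟨η, hηo, hηξ⟩ := hgen hξo
    refine Set.mem_iUnion₂.mpr ⟨η, ⟨?_, hηo.mem_open hT hoT⟩, specializes_iff_mem_closure.mp hηo⟩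
    show y η ∈ Ξ
    rw [hηξ]
    exact hξ
  have hFcl : IsClosed (⋃ η ∈ (y ⁻¹' Ξ ∩ T), closure ({η} : Set Y)) :=
    (hEfin.subset Set.inter_subset_left).isClosed_biUnion (fun η _ => isClosed_closure)
  have h1 : ζ ∈ closure (T ∩ y ⁻¹' (W : Set X)) := by
    rw [Set.inter_comm T]
    exact hOo.inter_closure ⟨hζW, hζ⟩
  have h2 := closure_minimal hsub hFcl h1
  obtain ⟨η, ⟨-, hηT⟩, hη⟩ := Set.mem_iUnion₂.mp h2
  exact ⟨η, hηT, specializes_iff_mem_closure.mpr hη⟩

end Gen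

section Local2

theorem not_both_closed {X Y : Scheme.{u}} (y : Y ⟶ X) [Etale y] (U : X.Opens)
    (hsh : ∀ x : X, x ∉ U → ∀ (R : Type u) [CommRing R] [IsLocalRing R]
      [Algebra (X.presheaf.stalk x) R]
      [IsLocalHom (algebraMap (X.presheaf.stalk x) R)]
      [Hensel.IsStrictHenselization (X.presheaf.stalk x) R],
      ConnectedSpace (FEt.puncturedSpec R : Scheme.{u}))
    (C₁ C₂ : Set Y) (hC₁ : IsClosed C₁) (hC₂ : IsClosed C₂) (hcov : C₁ ∪ C₂ = Set.univ)
    (z z₁ z₂ : Y) (hz : y z ∉ U)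
    (hmax : ∀ z' : Y, z' ⤳ z → z' ≠ z → ¬ (z' ∈ C₁ ∧ z' ∈ C₂))
    (h₁ : z₁ ∈ C₁) (h₂ : z₂ ∈ C₂) (hs₁ : z₁ ⤳ z) (hs₂ : z₂ ⤳ z) (hz₁ne : z₁ ≠ z)
    (hz₂ne : z₂ ≠ z) : False := by
  obtain ⟨S, i1, i2, i3, i4, hS, i5, i6, hS'⟩ := exists_common_sh y z
  haveI hconn : ConnectedSpace (FEt.puncturedSpec S : Scheme.{u}) := hsh (y z) hz S
  obtain ⟨π, hπ⟩ : ∃ π : Spec (CommRingCat.of S) ⟶ Y,
      π = Spec.map (CommRingCat.ofHom (algebraMap (Y.presheaf.stalk z) S)) ≫
        Y.fromSpecStalk z := ⟨_, rfl⟩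
  have hB1 : ∀ 𝔮 : ↥(Spec (CommRingCat.of S)), π 𝔮 ⤳ z := by
    intro 𝔮
    have h1 : π 𝔮 ∈ Set.range (Y.fromSpecStalk z) := by
      rw [hπ, Scheme.Hom.comp_apply]
      exact ⟨_, rfl⟩
    rw [Scheme.range_fromSpecStalk] at h1
    exact h1
  have hB0 : π (IsLocalRing.closedPoint S) = z := by
    rw [hπ, Scheme.Hom.comp_apply]
    have h1 : (Spec.map (CommRingCat.ofHom (algebraMap (Y.presheaf.stalk z) S)))
        (IsLocalRing.closedPoint S) = IsLocalRing.closedPoint (Y.presheaf.stalk z) :=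
      IsLocalRing.comap_closedPoint (algebraMap (Y.presheaf.stalk z) S)
    rw [h1]
    exact Scheme.fromSpecStalk_closedPoint
  have hB2 : ∀ 𝔮 : ↥(Spec (CommRingCat.of S)), π 𝔮 = z → 𝔮 = IsLocalRing.closedPoint S := by
    intro 𝔮 h
    rw [hπ, Scheme.Hom.comp_apply] at h
    have h1 : (Spec.map (CommRingCat.ofHom (algebraMap (Y.presheaf.stalk z) S))) 𝔮 =
        IsLocalRing.closedPoint (Y.presheaf.stalk z) := by
      apply (Y.fromSpecStalk z).isEmbedding.injective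
      rw [h]
      exact Scheme.fromSpecStalk_closedPoint.symm
    have h2 : IsLocalRing.maximalIdeal (Y.presheaf.stalk z) ≤
        Ideal.comap (algebraMap (Y.presheaf.stalk z) S) 𝔮.asIdeal := by
      have h3 := congrArg PrimeSpectrum.asIdeal h1
      exact (show Ideal.comap (algebraMap (Y.presheaf.stalk z) S) 𝔮.asIdeal =
        IsLocalRing.maximalIdeal (Y.presheaf.stalk z) from h3).ge
    have h3 : IsLocalRing.maximalIdeal S ≤ 𝔮.asIdeal := by
      rw [← Groth.Agent.Helper7.SHens.map_maximalIdeal_of_isStrictHenselization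
        (Y.presheaf.stalk z) S, Ideal.map_le_iff_le_comap]
      exact h2
    apply PrimeSpectrum.ext
    exact ((IsLocalRing.maximalIdeal.isMaximal S).eq_of_le 𝔮.isPrime.ne_top h3).symm
  have hB3 : ∀ z' : Y, z' ⤳ z → ∃ 𝔮 : ↥(Spec (CommRingCat.of S)), π 𝔮 = z' := by
    intro z' hz'
    have h1 : z' ∈ Set.range (Y.fromSpecStalk z) := by
      rw [Scheme.range_fromSpecStalk]
      exact hz'
    obtain ⟨𝔟, rfl⟩ := h1
    haveI := Groth.Agent.Helper7.SHens.faithfullyFlat_of_isStrictHenselization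
      (Y.presheaf.stalk z) S
    obtain ⟨𝔮, h𝔮⟩ := PrimeSpectrum.comap_surjective_of_faithfullyFlat
      (A := Y.presheaf.stalk z) (B := S) 𝔟
    refine ⟨𝔮, ?_⟩
    rw [hπ, Scheme.Hom.comp_apply]
    exact congrArg (Y.fromSpecStalk z) h𝔮
  obtain ⟨ρ, hρ⟩ : ∃ ρ : (FEt.puncturedSpec S : Scheme.{u}) ⟶ Y,
      ρ = (FEt.puncturedSpec S).ι ≫ π := ⟨_, rfl⟩
  have hιne : ∀ p : ↥(FEt.puncturedSpec S : Scheme.{u}),
      (FEt.puncturedSpec S).ι p ≠ IsLocalRing.closedPoint S := by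
    intro p
    have h1 : (FEt.puncturedSpec S).ι p ∈ Set.range (FEt.puncturedSpec S).ι := ⟨p, rfl⟩
    rw [Scheme.Opens.range_ι] at h1
    exact h1
  have hρs : ∀ p : ↥(FEt.puncturedSpec S : Scheme.{u}), ρ p ⤳ z := by
    intro p
    rw [hρ, Scheme.Hom.comp_apply]
    exact hB1 _
  have hρne : ∀ p : ↥(FEt.puncturedSpec S : Scheme.{u}), ρ p ≠ z := by
    intro p h
    rw [hρ, Scheme.Hom.comp_apply] at h
    exact hιne p (hB2 _ h)
  have hlift : ∀ z' : Y, z' ⤳ z → z' ≠ z → ∃ p : ↥(FEt.puncturedSpec S : Scheme.{u}),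
      ρ p = z' := by
    intro z' hs hne
    obtain ⟨𝔮, h𝔮⟩ := hB3 z' hs
    have h1 : 𝔮 ∈ Set.range (FEt.puncturedSpec S).ι := by
      rw [Scheme.Opens.range_ι]
      intro hc
      apply hne
      rw [← h𝔮, show 𝔮 = IsLocalRing.closedPoint S from hc, hB0]
    obtain ⟨p, hp⟩ := h1
    refine ⟨p, ?_⟩
    rw [hρ, Scheme.Hom.comp_apply, hp, h𝔮]
  have hclopen : IsClopen (ρ ⁻¹' C₁) := by
    refine ⟨hC₁.preimage ρ.continuous, ?_⟩
    have hcompl : (ρ ⁻¹' C₁)ᶜ = ρ ⁻¹' C₂ := by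
      ext p
      constructor
      · intro hp
        have h3 : ρ p ∈ C₁ ∪ C₂ := by rw [hcov]; trivial
        exact h3.resolve_left hp
      · intro hp hp1
        exact hmax (ρ p) (hρs p) (hρne p) ⟨hp1, hp⟩
    rw [← isClosed_compl_iff, hcompl]
    exact hC₂.preimage ρ.continuous
  obtain ⟨p₁, hp₁⟩ := hlift z₁ hs₁ hz₁ne
  obtain ⟨p₂, hp₂⟩ := hlift z₂ hs₂ hz₂ne
  rcases isClopen_iff.mp hclopen with h | h
  · have : p₁ ∈ ρ ⁻¹' C₁ := by
      show ρ p₁ ∈ C₁
      rw [hp₁]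
      exact h₁
    rw [h] at this
    exact this
  · have h3 : p₂ ∈ ρ ⁻¹' C₁ := by rw [h]; trivial
    have h4 : ρ p₂ ∈ C₁ := h3
    rw [hp₂] at h4
    exact hmax z₂ hs₂ hz₂ne ⟨h4, h₂⟩

end Local2

section Main2

theorem clopen_surj_irr {X Y : Scheme.{u}} (U : X.Opens) (hU : Dense (U : Set X))
    (hirr : ∀ V : X.Opens, IsCompact (V : Set X) → (irreducibleComponents ↥V).Finite)
    (hsh : ∀ x : X, x ∉ U → ∀ (R : Type u) [CommRing R] [IsLocalRing R]
      [Algebra (X.presheaf.stalk x) R]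
      [IsLocalHom (algebraMap (X.presheaf.stalk x) R)]
      [Hensel.IsStrictHenselization (X.presheaf.stalk x) R],
      ConnectedSpace (FEt.puncturedSpec R : Scheme.{u}))
    (y : Y ⟶ X) (hyf : IsFinite y) (hy : Etale y) (T' : Set ↥(pullback y U.ι))
    (hT' : IsClopen T') :
    ∃ T : Set Y, IsClopen T ∧ (pullback.fst y U.ι) ⁻¹' T = T' := by
  haveI := hy
  haveI := hyf
  obtain ⟨j, hj⟩ : ∃ j : pullback y U.ι ⟶ Y, j = pullback.fst y U.ι := ⟨_, rfl⟩
  rw [← hj]
  haveI : IsOpenImmersion j := by rw [hj]; infer_instance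
  have hemb : Topology.IsOpenEmbedding j := j.isOpenEmbedding
  have hr : Set.range j = y ⁻¹' (U : Set X) := by
    rw [hj, Scheme.Pullback.range_fst, Scheme.Opens.range_ι]
  have hdense : Dense (Set.range j) := by
    rw [hr]
    exact hU.preimage y.isOpenMap
  have hT₁o : IsOpen (j '' T') := hemb.isOpenMap _ hT'.2
  have hT₂o : IsOpen (j '' T'ᶜ) := hemb.isOpenMap _ hT'.compl.2
  have hdisj : Disjoint (j '' T') (j '' T'ᶜ) := by
    rw [Set.disjoint_left]
    rintro _ ⟨a, ha, rfl⟩ ⟨b, hb, hab⟩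
    exact hb (hemb.injective hab ▸ ha)
  have hun : j '' T' ∪ j '' T'ᶜ = Set.range j := by
    rw [← Set.image_union, Set.union_compl_self, Set.image_univ]
  have hcov : closure (j '' T') ∪ closure (j '' T'ᶜ) = Set.univ := by
    rw [← closure_union, hun]
    exact hdense.closure_eq
  have hkey : Disjoint (closure (j '' T')) (closure (j '' T'ᶜ)) := by
    rw [Set.disjoint_left]
    intro z₀ hz1 hz2
    obtain ⟨ζ, hζZ, -, hζmax⟩ := exists_maximal_point
      (closure (j '' T') ∩ closure (j '' T'ᶜ)) (isClosed_closure.inter isClosed_closure) z₀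
      ⟨hz1, hz2⟩
    have hζr : ζ ∉ Set.range j := by
      intro hzr
      rw [← hun] at hzr
      rcases hzr with h | h
      · obtain ⟨w, hw1, hw2⟩ := mem_closure_iff.mp hζZ.2 _ hT₁o h
        exact Set.disjoint_left.mp hdisj hw1 hw2
      · obtain ⟨w, hw2, hw1⟩ := mem_closure_iff.mp hζZ.1 _ hT₂o h
        exact Set.disjoint_left.mp hdisj hw1 hw2
    have hζU : y ζ ∉ U := by
      rw [hr] at hζr
      exact hζr
    obtain ⟨η₁, hη₁, hs₁⟩ := exists_specializes_of_mem_closure_of_irr y hirr _ hT₁o ζ hζZ.1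
    obtain ⟨η₂, hη₂, hs₂⟩ := exists_specializes_of_mem_closure_of_irr y hirr _ hT₂o ζ hζZ.2
    have hne₁ : η₁ ≠ ζ := by
      intro h
      apply hζr
      rw [← hun, ← h]
      exact Or.inl hη₁
    have hne₂ : η₂ ≠ ζ := by
      intro h
      apply hζr
      rw [← hun, ← h]
      exact Or.inr hη₂
    exact not_both_closed y U hsh _ _ isClosed_closure isClosed_closure hcov ζ η₁ η₂ hζU
      (fun z' hs hne h12 => hne (hζmax z' ⟨h12.1, h12.2⟩ hs)) (subset_closure hη₁)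
      (subset_closure hη₂) hs₁ hs₂ hne₁ hne₂
  refine ⟨closure (j '' T'), ⟨isClosed_closure, ?_⟩, ?_⟩
  · have heq : closure (j '' T') = (closure (j '' T'ᶜ))ᶜ := by
      ext w
      constructor
      · intro h1 h2
        exact Set.disjoint_left.mp hkey h1 h2
      · intro h2
        have h3 : w ∈ closure (j '' T') ∪ closure (j '' T'ᶜ) := by rw [hcov]; trivial
        exact h3.resolve_right h2
    rw [heq]
    exact isClosed_closure.isOpen_compl
  · rw [← hemb.isInducing.closure_eq_preimage_closure_image T', hT'.1.closure_eq]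

theorem main_irr {X : Scheme.{u}} (U : X.Opens) (hU : Dense (U : Set X))
    (hirr : ∀ V : X.Opens, IsCompact (V : Set X) → (irreducibleComponents ↥V).Finite)
    (hsh : ∀ x : X, x ∉ U → ∀ (R : Type u) [CommRing R] [IsLocalRing R]
      [Algebra (X.presheaf.stalk x) R]
      [IsLocalHom (algebraMap (X.presheaf.stalk x) R)]
      [Hensel.IsStrictHenselization (X.presheaf.stalk x) R],
      ConnectedSpace (FEt.puncturedSpec R : Scheme.{u})) :
    (FEt.restrict U.ι).Full ∧ (FEt.restrict U.ι).Faithful := by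
  apply H9FE.restrict_full_faithful_of_clopen U.ι
  · intro Y T hT hpre
    exact clopen_inj U hU Y.hom Y.prop.2 T hT hpre
  · intro W T' hT'
    exact clopen_surj_irr U hU hirr hsh W.hom W.prop.1 W.prop.2 T' hT'

end Main2

end Groth.Agent.Helper7.FEtDense
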